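import Cfsg.Agent.Lib.helper15.WB.Defs
import Cfsg.Agent.Lib.Helper21.SUnP7

set_option autoImplicit false

namespace Cfsg.Agent.Lib.helper15.WB

open Matrix Cfsg.Agent.Lib.helper15.SUn Cfsg.Agent.Lib.Helper28.UGen Cfsg.Agent.Lib.Helper28.UForm
  Cfsg.Agent.Lib.Helper21.SUnP7

variable {F : Type*} [Field F] [Fintype F] {n : ℕ} {q : ℕ} {σ : F ≃+* F}

theorem part_all_even {f : (Fin n → F) → (Fin n → F) → F} (hf : Cfsg.Geo.IsUnitaryForm σ f)
    (m : ℕ) (hn : n = 2 * m) :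
    ∀ j, j ≤ m → ∃ (E Fv : ℕ → Fin n → F) (k : ℕ) (a : Fin k → (Fin n → F)), Part f j E Fv a := by
  intro j
  induction j with
  | zero => intro _; exact part_zero hf
  | succ j ih =>
    intro hj
    obtain ⟨E, Fv, k, a, hP⟩ := ih (by omega)
    exact part_succ hf j (by omega) hP

theorem exists_eframe (hF : Fintype.card F = q ^ 2) (hσ : ∀ x, σ x = x ^ q)
    (hf : Cfsg.Geo.IsUnitaryForm σ (Cfsg.hermForm n F q)) (m : ℕ) (hn : n = 2 * m) :
    ∃ (E Fv : ℕ → Fin n → F), EFrame q m E Fv := by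
  obtain ⟨E, Fv, k, a, hP⟩ := part_all_even hf m hn m le_rfl
  refine ⟨E, Fv, ⟨hP.ee, hP.ff, ?_, hP.fe⟩⟩
  intro i j hi hj
  rw [hf.herm, hP.fe j i hj hi]
  by_cases h : i = j
  · rw [if_pos h, if_pos h.symm, map_one]
  · rw [if_neg h, if_neg (Ne.symm h), map_zero]

end Cfsg.Agent.Lib.helper15.WB
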