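import Cfsg.Agent.Lib.helper15.WB.Siegel

set_option autoImplicit false

/-! Project WB, phase 2 (S2334): general conjugation formula for the Siegel radical. -/

namespace Cfsg.Agent.Lib.helper15.WB

open Matrix Cfsg.Agent.Lib.helper15.SUn

variable {F : Type*} [Field F] {n : ℕ} {q : ℕ} {σ : F ≃+* F} {m : ℕ} {E : ℕ → Fin n → F}

/-- if the isometry `M` maps `E k` to `∑ a, A a k • E a` then conjugation by `M` acts on the
Siegel radical by the congruence `Y ↦ A * Y * (A.map σ)ᵀ`. -/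
theorem uS_conj_gen (hσ : ∀ x, σ x = x ^ q) {M Mi : Matrix (Fin n) (Fin n) F} (hMi : M * Mi = 1)
    (hiso : ∀ x y, Cfsg.hermForm n F q (M *ᵥ x) (M *ᵥ y) = Cfsg.hermForm n F q x y)
    (A : Matrix (Fin m) (Fin m) F) (hE : ∀ k : Fin m, M *ᵥ E k = ∑ a : Fin m, A a k • E a)
    (Y : Matrix (Fin m) (Fin m) F) :
    M * uS σ m E Y * Mi = uS σ m E (cg σ A Y) := by
  rw [uS_eq, uS_eq, conj_one_add hMi]
  congr 1
  rw [← nS_family]
  unfold nS
  rw [Finset.mul_sum, Finset.sum_mul]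
  apply Finset.sum_congr rfl
  intro k _
  rw [Finset.mul_sum, Finset.sum_mul]
  apply Finset.sum_congr rfl
  intro l _
  rw [Matrix.mul_smul, Matrix.smul_mul, conj_R hσ hMi hiso, hE, hE]

end Cfsg.Agent.Lib.helper15.WB
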