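import Mathlib
import Cfsg.Agent.Lib.helper15.SUn.Iso

set_option autoImplicit false

namespace Cfsg.Agent.Lib.helper15.WB

open Matrix Cfsg.Agent.Lib.helper15.SUn

section herm

variable {F : Type*} [Field F]

def cg (σ : F ≃+* F) {m : ℕ} (A X : Matrix (Fin m) (Fin m) F) : Matrix (Fin m) (Fin m) F :=
  A * X * (A.map σ)ᵀ

def IsHerm (σ : F ≃+* F) {m : ℕ} (X : Matrix (Fin m) (Fin m) F) : Prop :=
  ∀ i j, σ (X i j) = X j i

def Herm (σ : F ≃+* F) (m : ℕ) : AddSubgroup (Matrix (Fin m) (Fin m) F) where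
  carrier := {X | IsHerm σ X}
  add_mem' := by
    intro a b ha hb i j
    rw [Matrix.add_apply, map_add, ha i j, hb i j, Matrix.add_apply]
  zero_mem' := by
    intro i j
    rw [Matrix.zero_apply, map_zero, Matrix.zero_apply]
  neg_mem' := by
    intro a ha i j
    rw [Matrix.neg_apply, map_neg, ha i j, Matrix.neg_apply]

theorem mem_Herm {σ : F ≃+* F} {m : ℕ} {X : Matrix (Fin m) (Fin m) F} :
    X ∈ Herm σ m ↔ IsHerm σ X := Iff.rfl

theorem isHerm_iff {σ : F ≃+* F} {m : ℕ} (X : Matrix (Fin m) (Fin m) F) :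
    IsHerm σ X ↔ X.map σ = Xᵀ := by
  constructor
  · intro h
    ext i j
    rw [Matrix.map_apply, Matrix.transpose_apply, h i j]
  · intro h i j
    have := congrFun (congrFun h i) j
    rwa [Matrix.map_apply, Matrix.transpose_apply] at this

theorem cg_mem_Herm {σ : F ≃+* F} {m : ℕ} (hσ2 : ∀ x, σ (σ x) = x)
    (A : Matrix (Fin m) (Fin m) F) {X : Matrix (Fin m) (Fin m) F} (hX : X ∈ Herm σ m) :
    cg σ A X ∈ Herm σ m := by
  rw [mem_Herm, isHerm_iff] at *
  unfold cg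
  have h2 : (Aᵀ.map σ).map σ = Aᵀ := by
    ext i j
    simp [hσ2]
  rw [Matrix.map_mul, Matrix.map_mul, Matrix.transpose_mul, Matrix.transpose_mul,
    Matrix.transpose_transpose, hX, ← Matrix.transpose_map, h2, Matrix.mul_assoc]

/-- trace pairing against a fixed matrix, as an additive map on the Hermitian matrices -/
def trHom (σ : F ≃+* F) (m : ℕ) (X : Matrix (Fin m) (Fin m) F) : ↥(Herm σ m) →+ F where
  toFun H := Matrix.trace (X * (H : Matrix (Fin m) (Fin m) F))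
  map_zero' := by simp
  map_add' := by intro a b; simp [Matrix.mul_add, Matrix.trace_add]

/-- the character of the Hermitian matrices attached to a Hermitian matrix -/
def dualChar (σ : F ≃+* F) (m : ℕ) (χ0 : AddChar F ℂ) (X : ↥(Herm σ m)) :
    AddChar ↥(Herm σ m) ℂ :=
  χ0.compAddMonoidHom (trHom σ m (X : Matrix (Fin m) (Fin m) F))

theorem dualChar_apply {σ : F ≃+* F} {m : ℕ} (χ0 : AddChar F ℂ) (X H : ↥(Herm σ m)) :
    dualChar σ m χ0 X H =
      χ0 (Matrix.trace ((X : Matrix (Fin m) (Fin m) F) * (H : Matrix (Fin m) (Fin m) F))) := rfl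

/-- congruence as an additive endomorphism of the Hermitian matrices -/
def cgHom (σ : F ≃+* F) {m : ℕ} (hσ2 : ∀ x, σ (σ x) = x) (A : Matrix (Fin m) (Fin m) F) :
    ↥(Herm σ m) →+ ↥(Herm σ m) where
  toFun H := ⟨cg σ A H, cg_mem_Herm hσ2 A H.2⟩
  map_zero' := by
    apply Subtype.ext
    simp [cg]
  map_add' := by
    intro a b
    apply Subtype.ext
    simp [cg, Matrix.mul_add, Matrix.add_mul]

theorem coe_cgHom {σ : F ≃+* F} {m : ℕ} (hσ2 : ∀ x, σ (σ x) = x)
    (A : Matrix (Fin m) (Fin m) F) (H : ↥(Herm σ m)) :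
    ((cgHom σ hσ2 A H : ↥(Herm σ m)) : Matrix (Fin m) (Fin m) F) = cg σ A H := rfl

theorem cg_smul {σ : F ≃+* F} {m : ℕ} (A : Matrix (Fin m) (Fin m) F) (κ : F)
    (H : Matrix (Fin m) (Fin m) F) : cg σ A (κ • H) = κ • cg σ A H := by
  unfold cg
  rw [Matrix.mul_smul, Matrix.smul_mul]

theorem cg_mul {σ : F ≃+* F} {m : ℕ} (A B X : Matrix (Fin m) (Fin m) F) :
    cg σ (A * B) X = cg σ A (cg σ B X) := by
  unfold cg
  rw [Matrix.map_mul, Matrix.transpose_mul]
  simp only [Matrix.mul_assoc]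

theorem cg_one {σ : F ≃+* F} {m : ℕ} (X : Matrix (Fin m) (Fin m) F) : cg σ 1 X = X := by
  unfold cg
  rw [Matrix.map_one _ (map_zero σ) (map_one σ), Matrix.transpose_one, Matrix.one_mul,
    Matrix.mul_one]

end herm

section frame

variable {F : Type*} [Field F] {n : ℕ}

structure EFrame (q : ℕ) (m : ℕ) (E Fv : ℕ → Fin n → F) : Prop where
  ee : ∀ i j, i < m → j < m → Cfsg.hermForm n F q (E i) (E j) = 0
  ff : ∀ i j, i < m → j < m → Cfsg.hermForm n F q (Fv i) (Fv j) = 0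
  ef : ∀ i j, i < m → j < m → Cfsg.hermForm n F q (E i) (Fv j) = if i = j then 1 else 0
  fe : ∀ i j, i < m → j < m → Cfsg.hermForm n F q (Fv i) (E j) = if i = j then 1 else 0

def uS (σ : F ≃+* F) (m : ℕ) (E : ℕ → Fin n → F) (Y : Matrix (Fin m) (Fin m) F) :
    Matrix (Fin n) (Fin n) F :=
  1 + ∑ i : Fin m, ∑ j : Fin m, Y i j • R σ (E i) (E j)

end frame

section rep

variable {G : Type*} [Group G] {V : Type*} [AddCommGroup V] [Module ℂ V]
  {U : Type*} [AddCommGroup U]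

def eig (ρ : Representation ℂ G V) (φ : U → G) (ψ : AddChar U ℂ) : Submodule ℂ V where
  carrier := {v | ∀ a, ρ (φ a) v = ψ a • v}
  add_mem' := by
    intro v w hv hw a
    rw [map_add, hv a, hw a, smul_add]
  zero_mem' := by
    intro a
    rw [map_zero, smul_zero]
  smul_mem' := by
    intro c v hv a
    rw [map_smul, hv a, smul_comm]

def Occ (ρ : Representation ℂ G V) (φ : U → G) : Set (AddChar U ℂ) :=
  {ψ | ∃ v : V, v ≠ 0 ∧ ∀ a, ρ (φ a) v = ψ a • v}

theorem mem_eig {ρ : Representation ℂ G V} {φ : U → G} {ψ : AddChar U ℂ} {v : V} :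
    v ∈ eig ρ φ ψ ↔ ∀ a, ρ (φ a) v = ψ a • v := Iff.rfl

theorem mem_Occ_iff {ρ : Representation ℂ G V} {φ : U → G} {ψ : AddChar U ℂ} :
    ψ ∈ Occ ρ φ ↔ eig ρ φ ψ ≠ ⊥ := by
  rw [Submodule.ne_bot_iff]
  constructor
  · rintro ⟨v, hv, h⟩
    exact ⟨v, h, hv⟩
  · rintro ⟨v, h, hv⟩
    exact ⟨v, hv, h⟩

end rep

end Cfsg.Agent.Lib.helper15.WB
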