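import Cfsg.Agent.Lib.helper15.WB.MainEven
import Cfsg.Agent.Lib.Helper16.WB2A
import Cfsg.Agent.Lib.Helper11.WBHd

set_option autoImplicit false

/-! Project WB, phase 2 (piece WB2-B): the Heisenberg group inside the unipotent radical of the
stabiliser of a maximal isotropic subspace of an odd-dimensional unitary space forces
multiplicity at least `q` for every character `ψ_X` of the centre with `X 0 0 ≠ 0`. -/

namespace Cfsg.Agent.Lib.helper15.WB.Heis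

open Matrix Cfsg.Agent.Lib.helper15.SUn Cfsg.Agent.Lib.helper15.WB
  Cfsg.Agent.Lib.helper15.WB.Main Cfsg.Agent.Lib.Helper28.UForm

section mat

variable {F : Type*} [Field F] {n : ℕ} {q : ℕ} {σ : F ≃+* F} {m : ℕ} {E : ℕ → Fin n → F}

theorem nS_mul_R (hσ : ∀ x, σ x = x ^ q) (a b : Fin n → F)
    (h : ∀ j : Fin m, Cfsg.hermForm n F q a (E j) = 0) (Y : Matrix (Fin m) (Fin m) F) :
    nS σ m E Y * R σ a b = 0 := by
  unfold nS
  rw [Finset.sum_mul]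
  apply Finset.sum_eq_zero
  intro i _
  rw [Finset.sum_mul]
  apply Finset.sum_eq_zero
  intro j _
  rw [Matrix.smul_mul, R_mul_R hσ, h j, zero_smul, smul_zero]

theorem R_mul_nS (hσ : ∀ x, σ x = x ^ q) (a b : Fin n → F)
    (h : ∀ i : Fin m, Cfsg.hermForm n F q (E i) b = 0) (Y : Matrix (Fin m) (Fin m) F) :
    R σ a b * nS σ m E Y = 0 := by
  unfold nS
  rw [Finset.mul_sum]
  apply Finset.sum_eq_zero
  intro i _
  rw [Finset.mul_sum]
  apply Finset.sum_eq_zero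
  intro j _
  rw [Matrix.mul_smul, R_mul_R hσ, h i, zero_smul, smul_zero]

theorem uS_comm_Eh (hσ : ∀ x, σ x = x ^ q) (p w : Fin n → F) (c : F)
    (hp1 : ∀ j : Fin m, Cfsg.hermForm n F q p (E j) = 0)
    (hp2 : ∀ i : Fin m, Cfsg.hermForm n F q (E i) p = 0)
    (hw1 : ∀ j : Fin m, Cfsg.hermForm n F q w (E j) = 0)
    (hw2 : ∀ i : Fin m, Cfsg.hermForm n F q (E i) w = 0) (Y : Matrix (Fin m) (Fin m) F) :
    uS σ m E Y * Eh σ p w c = Eh σ p w c * uS σ m E Y := by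
  rw [uS_eq]
  unfold Eh
  simp only [Matrix.add_mul, Matrix.mul_add, Matrix.sub_mul, Matrix.mul_sub, Matrix.one_mul,
    Matrix.mul_one, Matrix.mul_smul, Matrix.smul_mul, nS_mul_R hσ _ _ hp1, nS_mul_R hσ _ _ hw1,
    R_mul_nS hσ _ _ hp2, R_mul_nS hσ _ _ hw2, smul_zero, add_zero, sub_zero]
  abel

theorem Eh_zero_w (p : Fin n → F) (c : F) : Eh σ p 0 c = TV σ p c := by
  unfold Eh TV
  rw [R_zero_left, R_zero_right, add_zero, sub_zero]

theorem Eh_TV (hσ : ∀ x, σ x = x ^ q) (hf : Cfsg.Geo.IsUnitaryForm σ (Cfsg.hermForm n F q))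
    {p w : Fin n → F} (hp : Cfsg.hermForm n F q p p = 0) (hwp : Cfsg.hermForm n F q w p = 0)
    (c u : F) : Eh σ p w c * TV σ p u = Eh σ p w (c + u) := by
  rw [← Eh_zero_w, Eh_mul hσ hf hp hwp (herm_zero_left _), add_zero, herm_zero_left, sub_zero]

end mat

section grp

variable {F : Type*} [Field F] [Fintype F] [DecidableEq F] {n : ℕ} {q : ℕ} {σ : F ≃+* F} {m : ℕ}
  {E Fv : ℕ → Fin n → F} {d : Fin n → F}

omit [Fintype F] [DecidableEq F] in
theorem Eh_d_mul (hσ : ∀ x, σ x = x ^ q) (hf : Cfsg.Geo.IsUnitaryForm σ (Cfsg.hermForm n F q))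
    (fr : Frame q (m + 1) E Fv d) (s c t c' : F) :
    Eh σ (E 0) (s • d) c * Eh σ (E 0) (t • d) c' =
      Eh σ (E 0) ((s + t) • d) (c + c' - t * σ s) := by
  have h0 : 0 < m + 1 := Nat.succ_pos m
  have hp : Cfsg.hermForm n F q (E 0) (E 0) = 0 := fr.ee 0 0 h0 h0
  have hw : ∀ s : F, Cfsg.hermForm n F q (s • d) (E 0) = 0 := by
    intro s
    rw [herm_smul_left, fr.de 0 h0, mul_zero]
  rw [Eh_mul hσ hf hp (hw s) (hw t), herm_smul_left, herm_smul_right hσ, fr.dd, mul_one, add_smul]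

/-- parameters of the Heisenberg elements -/
abbrev HP (σ : F ≃+* F) : Type _ := {sc : F × F // sc.2 + σ sc.2 + sc.1 * σ sc.1 = 0}

/-- the Heisenberg elements -/
noncomputable def hel (hσ : ∀ x, σ x = x ^ q)
    (hf : Cfsg.Geo.IsUnitaryForm σ (Cfsg.hermForm n F q)) (fr : Frame q (m + 1) E Fv d)
    (j : HP σ) : ↥(Cfsg.SU n F q) :=
  mkSU (Eh σ (E 0) (j.1.1 • d) j.1.2)
    (Eh_det hσ hf (fr.ee 0 0 (Nat.succ_pos m) (Nat.succ_pos m))
      (by rw [herm_smul_left, fr.de 0 (Nat.succ_pos m), mul_zero]) _)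
    (Eh_iso hσ hf (fr.ee 0 0 (Nat.succ_pos m) (Nat.succ_pos m))
      (by rw [herm_smul_left, fr.de 0 (Nat.succ_pos m), mul_zero])
      (by rw [herm_smul_left, herm_smul_right hσ, fr.dd, mul_one]; exact j.2))

omit [Fintype F] [DecidableEq F] in
theorem coe_hel (hσ : ∀ x, σ x = x ^ q)
    (hf : Cfsg.Geo.IsUnitaryForm σ (Cfsg.hermForm n F q)) (fr : Frame q (m + 1) E Fv d)
    (j : HP σ) :
    ((hel hσ hf fr j : ↥(Cfsg.SU n F q)) : Matrix.SpecialLinearGroup (Fin n) F).1 =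
      Eh σ (E 0) (j.1.1 • d) j.1.2 := rfl

omit [Fintype F] [DecidableEq F] in
theorem phi_comm_hel (hσ : ∀ x, σ x = x ^ q)
    (hf : Cfsg.Geo.IsUnitaryForm σ (Cfsg.hermForm n F q)) (fr : Frame q (m + 1) E Fv d)
    {κ : F} (hκ : σ κ = -κ) (H : ↥(Herm σ (m + 1))) (j : HP σ) :
    phi hσ hf fr.ee hκ H * hel hσ hf fr j = hel hσ hf fr j * phi hσ hf fr.ee hκ H := by
  have h0 : 0 < m + 1 := Nat.succ_pos m
  apply su_ext
  rw [su_coe_mul, su_coe_mul]
  show uS σ (m + 1) E (κ • (H : Matrix (Fin (m + 1)) (Fin (m + 1)) F)) *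
      Eh σ (E 0) (j.1.1 • d) j.1.2 = Eh σ (E 0) (j.1.1 • d) j.1.2 *
      uS σ (m + 1) E (κ • (H : Matrix (Fin (m + 1)) (Fin (m + 1)) F))
  apply uS_comm_Eh hσ
  · intro i
    exact fr.ee 0 i h0 i.2
  · intro i
    exact fr.ee i 0 i.2 h0
  · intro i
    rw [herm_smul_left, fr.de i i.2, mul_zero]
  · intro i
    rw [herm_smul_right hσ, fr.ed i i.2, mul_zero]

omit [Fintype F] [DecidableEq F] in
theorem hel_comm (hσ : ∀ x, σ x = x ^ q)
    (hf : Cfsg.Geo.IsUnitaryForm σ (Cfsg.hermForm n F q)) (fr : Frame q (m + 1) E Fv d)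
    (j j' : HP σ) (hj : σ j.1.1 = j.1.1) (hj' : σ j'.1.1 = j'.1.1) :
    hel hσ hf fr j * hel hσ hf fr j' = hel hσ hf fr j' * hel hσ hf fr j := by
  apply su_ext
  rw [su_coe_mul, su_coe_mul, coe_hel, coe_hel, Eh_d_mul hσ hf fr, Eh_d_mul hσ hf fr, hj, hj',
    add_comm j.1.1, add_comm j.1.2, mul_comm j.1.1]

/-- the central element attached to a fixed scalar -/
def zet (σ : F ≃+* F) (m : ℕ) (z : F) (hz : σ z = z) : ↥(Herm σ (m + 1)) :=
  ⟨Matrix.single 0 0 z, by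
    intro i j
    rw [Matrix.single_apply, Matrix.single_apply]
    by_cases h : (0 : Fin (m + 1)) = i ∧ (0 : Fin (m + 1)) = j
    · rw [if_pos h, if_pos ⟨h.2, h.1⟩, hz]
    · rw [if_neg h, if_neg (fun h' => h ⟨h'.2, h'.1⟩), map_zero]⟩

theorem hel_rel (hσ : ∀ x, σ x = x ^ q)
    (hf : Cfsg.Geo.IsUnitaryForm σ (Cfsg.hermForm n F q)) (fr : Frame q (m + 1) E Fv d)
    {κ : F} (hκ : σ κ = -κ) (j i : HP σ) (hj : σ j.1.1 = j.1.1) (r : F) (hr : σ r = r)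
    (hi : σ i.1.1 - i.1.1 = r * κ) (hz : σ (j.1.1 * r) = j.1.1 * r) :
    hel hσ hf fr j * hel hσ hf fr i =
      hel hσ hf fr i * hel hσ hf fr j * phi hσ hf fr.ee hκ (zet σ m (j.1.1 * r) hz) := by
  have h0 : 0 < m + 1 := Nat.succ_pos m
  have hp : Cfsg.hermForm n F q (E 0) (E 0) = 0 := fr.ee 0 0 h0 h0
  have hw : ∀ s : F, Cfsg.hermForm n F q (s • d) (E 0) = 0 := by
    intro s
    rw [herm_smul_left, fr.de 0 h0, mul_zero]
  apply su_ext
  rw [su_coe_mul, su_coe_mul, su_coe_mul, coe_hel, coe_hel, coe_phi]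
  show _ = _ * _ * uS σ (m + 1) E (κ • Matrix.single (0 : Fin (m + 1)) 0 (j.1.1 * r))
  rw [Matrix.smul_single, uS_single, Fin.val_zero, Eh_d_mul hσ hf fr, Eh_d_mul hσ hf fr,
    Eh_TV hσ hf hp (hw _),
    add_comm i.1.1 j.1.1]
  congr 1
  rw [hj, smul_eq_mul]
  linear_combination j.1.1 * hi

theorem card_fix (hF : Fintype.card F = q ^ 2) (hσ : ∀ x, σ x = x ^ q) :
    q ≤ Fintype.card {r : F // σ r = r} := by
  classical
  have h1 := Cfsg.Agent.Lib.Helper11.WBHd.fixed_count (F := F) hF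
  rw [Fintype.card_subtype]
  have hsub : insert 0 (Finset.univ.filter (fun x : F => x ^ q = x ∧ x ≠ 0)) ⊆
      Finset.univ.filter (fun r : F => σ r = r) := by
    intro x hx
    rw [Finset.mem_insert] at hx
    rw [Finset.mem_filter]
    refine ⟨Finset.mem_univ _, ?_⟩
    rcases hx with rfl | hx
    · exact map_zero σ
    · rw [hσ]
      exact (Finset.mem_filter.1 hx).2.1
  have h2 := Finset.card_le_card hsub
  rw [Finset.card_insert_of_notMem (by simp)] at h2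
  omega

omit [Fintype F] [DecidableEq F] in
theorem exists_tc (hf : Cfsg.Geo.IsUnitaryForm σ (Cfsg.hermForm n F q)) {κ : F} (hκ : σ κ = -κ)
    (r : F) (hr : σ r = r) :
    ∃ t c : F, σ t - t = r * κ ∧ c + σ c + t * σ t = 0 := by
  obtain ⟨a, ha⟩ := trace_surj hf (-r) (by rw [map_neg, hr])
  have hN : σ (-(a * κ * σ (a * κ))) = -(a * κ * σ (a * κ)) := by
    rw [map_neg, map_mul, hf.involutive, mul_comm]
  obtain ⟨c, hc⟩ := trace_surj hf _ hN
  refine ⟨a * κ, c, ?_, ?_⟩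
  · rw [map_mul, hκ]
    linear_combination (-κ) * ha
  · rw [hc]
    ring

omit [Fintype F] [DecidableEq F] in
theorem trace_mul_single00 (X : Matrix (Fin (m + 1)) (Fin (m + 1)) F) (z : F) :
    Matrix.trace (X * Matrix.single 0 0 z) = X 0 0 * z := by
  rw [Matrix.trace, Finset.sum_eq_single 0]
  · rw [Matrix.diag_apply, Matrix.mul_single_apply_same]
  · intro b _ hb
    rw [Matrix.diag_apply, Matrix.mul_single_apply_of_ne _ _ _ _ _ hb]
  · intro h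
    exact absurd (Finset.mem_univ _) h

theorem heis_bound (hF : Fintype.card F = q ^ 2) (hσ : ∀ x, σ x = x ^ q)
    (hf : Cfsg.Geo.IsUnitaryForm σ (Cfsg.hermForm n F q)) (fr : Frame q (m + 1) E Fv d)
    {κ : F} (hκ0 : κ ≠ 0) (hκ : σ κ = -κ) (χ0 : AddChar F ℂ) (hχ0 : χ0 1 ≠ 1)
    {V : Type*} [AddCommGroup V] [Module ℂ V] [FiniteDimensional ℂ V]
    (ρ : Representation ℂ ↥(Cfsg.SU n F q) V) (X : ↥(Herm σ (m + 1)))
    (hX : (X : Matrix (Fin (m + 1)) (Fin (m + 1)) F) 0 0 ≠ 0)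
    (hocc : dualChar σ (m + 1) χ0 X ∈ Occ ρ (phi hσ hf fr.ee hκ)) :
    q ≤ Module.finrank ℂ (eig ρ (phi hσ hf fr.ee hκ) (dualChar σ (m + 1) χ0 X)) := by
  classical
  have hex : ∀ r : {r : F // σ r = r}, ∃ i : HP σ, σ i.1.1 - i.1.1 = r.1 * κ := by
    intro r
    obtain ⟨t, c, ht, hc⟩ := exists_tc hf hκ r.1 r.2
    exact ⟨⟨(t, c), hc⟩, ht⟩
  choose gi hgi using hex
  have hz : ∀ (r : {r : F // σ r = r}) (j : {j : HP σ // σ j.1.1 = j.1.1}),
      σ (j.1.1.1 * r.1) = j.1.1.1 * r.1 := by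
    intro r j
    rw [map_mul, j.2, r.2]
  have hψ : ∀ (z : F) (hz : σ z = z), dualChar σ (m + 1) χ0 X (zet σ m z hz) =
      χ0 ((X : Matrix (Fin (m + 1)) (Fin (m + 1)) F) 0 0 * z) := by
    intro z hz
    rw [dualChar_apply]
    show χ0 (Matrix.trace ((X : Matrix (Fin (m + 1)) (Fin (m + 1)) F) * Matrix.single 0 0 z)) = _
    rw [trace_mul_single00]
  have key := Cfsg.Agent.Lib.Helper16.WB2A.heis_abstract ρ (phi hσ hf fr.ee hκ)
    (dualChar σ (m + 1) χ0 X) hocc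
    (x := fun j : {j : HP σ // σ j.1.1 = j.1.1} => hel hσ hf fr j.1)
    (fun j j' => hel_comm hσ hf fr j.1 j'.1 j.2 j'.2)
    (fun j a => phi_comm_hel hσ hf fr hκ a j.1)
    (g := fun r : {r : F // σ r = r} => hel hσ hf fr (gi r))
    (fun r a => phi_comm_hel hσ hf fr hκ a (gi r))
    (fun r j => zet σ m (j.1.1.1 * r.1) (hz r j))
    (fun r j => hel_rel hσ hf fr hκ j.1 (gi r) j.2 r.1 r.2 (hgi r) (hz r j))
    (by
      intro r r' hrr
      have hx0 : σ ((X : Matrix (Fin (m + 1)) (Fin (m + 1)) F) 0 0) =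
          (X : Matrix (Fin (m + 1)) (Fin (m + 1)) F) 0 0 := X.2 0 0
      set x0 := (X : Matrix (Fin (m + 1)) (Fin (m + 1)) F) 0 0 with hx0def
      have hδ : r.1 - r'.1 ≠ 0 := fun h => hrr (Subtype.ext (sub_eq_zero.1 h))
      have hs : σ ((x0 * (r.1 - r'.1))⁻¹) = (x0 * (r.1 - r'.1))⁻¹ := by
        rw [map_inv₀, map_mul, map_sub, hx0, r.2, r'.2]
      have hN : σ (-((x0 * (r.1 - r'.1))⁻¹ * σ ((x0 * (r.1 - r'.1))⁻¹))) =
          -((x0 * (r.1 - r'.1))⁻¹ * σ ((x0 * (r.1 - r'.1))⁻¹)) := by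
        rw [map_neg, map_mul, hf.involutive, mul_comm]
      obtain ⟨c, hc⟩ := trace_surj hf _ hN
      refine ⟨⟨⟨((x0 * (r.1 - r'.1))⁻¹, c), by
        show c + σ c + (x0 * (r.1 - r'.1))⁻¹ * σ ((x0 * (r.1 - r'.1))⁻¹) = 0
        rw [hc]; ring⟩, hs⟩, ?_⟩
      show dualChar σ (m + 1) χ0 X (zet σ m ((x0 * (r.1 - r'.1))⁻¹ * r.1) _) ≠
        dualChar σ (m + 1) χ0 X (zet σ m ((x0 * (r.1 - r'.1))⁻¹ * r'.1) _)
      rw [hψ, hψ]
      intro heq
      have h1 : x0 * ((x0 * (r.1 - r'.1))⁻¹ * r.1) =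
          x0 * ((x0 * (r.1 - r'.1))⁻¹ * r'.1) + 1 := by
        have hne : x0 * (r.1 - r'.1) ≠ 0 := mul_ne_zero hX hδ
        field_simp
        ring
      rw [h1, AddChar.map_add_eq_mul] at heq
      have hb : χ0 (x0 * ((x0 * (r.1 - r'.1))⁻¹ * r'.1)) *
          χ0 (-(x0 * ((x0 * (r.1 - r'.1))⁻¹ * r'.1))) = 1 := by
        rw [← AddChar.map_add_eq_mul, add_neg_cancel, AddChar.map_zero_eq_one]
      apply hχ0
      have h2 := congrArg (fun y => χ0 (-(x0 * ((x0 * (r.1 - r'.1))⁻¹ * r'.1))) * y) heq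
      beta_reduce at h2
      rw [← mul_assoc, mul_comm (χ0 (-(x0 * ((x0 * (r.1 - r'.1))⁻¹ * r'.1)))), hb, one_mul] at h2
      exact h2)
  exact le_trans (card_fix hF hσ) key

end grp

end Cfsg.Agent.Lib.helper15.WB.Heis
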