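import Cfsg.Agent.Lib.helper15.WB.Defs
import Cfsg.Agent.Lib.Helper28.UGen2

set_option autoImplicit false

namespace Cfsg.Agent.Lib.helper15.WB

open Matrix Cfsg.Agent.Lib.helper15.SUn Cfsg.Agent.Lib.Helper28.UForm

variable {F : Type*} [Field F] {n : ℕ} {q : ℕ} {σ : F ≃+* F} {m : ℕ}
  {E Fv : ℕ → Fin n → F}

/-- the nilpotent part -/
def nS (σ : F ≃+* F) (m : ℕ) (E : ℕ → Fin n → F) (Y : Matrix (Fin m) (Fin m) F) :
    Matrix (Fin n) (Fin n) F :=
  ∑ i : Fin m, ∑ j : Fin m, Y i j • R σ (E i) (E j)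

theorem uS_eq (Y : Matrix (Fin m) (Fin m) F) : uS σ m E Y = 1 + nS σ m E Y := rfl

theorem nS_zero : nS σ m E (0 : Matrix (Fin m) (Fin m) F) = 0 := by
  unfold nS
  simp

theorem nS_add (Y Y' : Matrix (Fin m) (Fin m) F) :
    nS σ m E (Y + Y') = nS σ m E Y + nS σ m E Y' := by
  unfold nS
  rw [← Finset.sum_add_distrib]
  apply Finset.sum_congr rfl
  intro i _
  rw [← Finset.sum_add_distrib]
  apply Finset.sum_congr rfl
  intro j _
  rw [Matrix.add_apply, add_smul]

theorem nS_mul_nS (hσ : ∀ x, σ x = x ^ q)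
    (hee : ∀ i j, i < m → j < m → Cfsg.hermForm n F q (E i) (E j) = 0)
    (Y Y' : Matrix (Fin m) (Fin m) F) : nS σ m E Y * nS σ m E Y' = 0 := by
  unfold nS
  rw [Finset.sum_mul]
  apply Finset.sum_eq_zero
  intro i _
  rw [Finset.sum_mul]
  apply Finset.sum_eq_zero
  intro j _
  rw [Finset.mul_sum]
  apply Finset.sum_eq_zero
  intro k _
  rw [Finset.mul_sum]
  apply Finset.sum_eq_zero
  intro l _
  rw [Matrix.smul_mul, Matrix.mul_smul, R_mul_R hσ, hee k j k.2 j.2, zero_smul, smul_zero,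
    smul_zero]

theorem uS_zero : uS σ m E (0 : Matrix (Fin m) (Fin m) F) = 1 := by
  rw [uS_eq, nS_zero, add_zero]

theorem uS_add (hσ : ∀ x, σ x = x ^ q)
    (hee : ∀ i j, i < m → j < m → Cfsg.hermForm n F q (E i) (E j) = 0)
    (Y Y' : Matrix (Fin m) (Fin m) F) : uS σ m E (Y + Y') = uS σ m E Y * uS σ m E Y' := by
  rw [uS_eq, uS_eq, uS_eq, nS_add, Matrix.add_mul, Matrix.mul_add, Matrix.mul_add, Matrix.one_mul,
    Matrix.one_mul, Matrix.mul_one, nS_mul_nS hσ hee, add_zero]
  abel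

theorem nS_mulVec (hσ : ∀ x, σ x = x ^ q) (Y : Matrix (Fin m) (Fin m) F) (x : Fin n → F) :
    nS σ m E Y *ᵥ x =
      ∑ i : Fin m, ∑ j : Fin m, (Y i j * Cfsg.hermForm n F q x (E j)) • E i := by
  unfold nS
  rw [Matrix.sum_mulVec]
  apply Finset.sum_congr rfl
  intro i _
  rw [Matrix.sum_mulVec]
  apply Finset.sum_congr rfl
  intro j _
  rw [Matrix.smul_mulVec, R_mulVec hσ, smul_smul]

theorem uS_single (i : Fin m) (c : F) :
    uS σ m E (Matrix.single i i c) = TV σ (E i) c := by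
  classical
  rw [uS_eq]
  unfold nS TV
  congr 1
  rw [Finset.sum_eq_single i]
  · rw [Finset.sum_eq_single i]
    · rw [Matrix.single_apply_same]
    · intro j _ hj
      rw [Matrix.single_apply, if_neg (fun h => hj h.2.symm), zero_smul]
    · intro h; exact absurd (Finset.mem_univ _) h
  · intro k _ hk
    apply Finset.sum_eq_zero
    intro j _
    rw [Matrix.single_apply, if_neg (fun h => hk h.1.symm), zero_smul]
  · intro h; exact absurd (Finset.mem_univ _) h

theorem uS_det (hσ : ∀ x, σ x = x ^ q)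
    (hee : ∀ i j, i < m → j < m → Cfsg.hermForm n F q (E i) (E j) = 0)
    (Y : Matrix (Fin m) (Fin m) F) : (uS σ m E Y).det = 1 := by
  classical
  -- uS Y = 1 + P * Q with Q * P = 0
  let P : Matrix (Fin n) (Fin m) F := Matrix.of (fun a i => E i a)
  let Q : Matrix (Fin m) (Fin n) F := Matrix.of (fun i b => ∑ j : Fin m, Y i j * σ (E j b))
  have hPQ : uS σ m E Y = 1 + P * Q := by
    rw [uS_eq]
    congr 1
    ext a b
    unfold nS
    rw [Matrix.sum_apply, Matrix.mul_apply]
    apply Finset.sum_congr rfl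
    intro i _
    rw [Matrix.sum_apply]
    show _ = E i a * ∑ j : Fin m, Y i j * σ (E j b)
    rw [Finset.mul_sum]
    apply Finset.sum_congr rfl
    intro j _
    rw [Matrix.smul_apply, smul_eq_mul]
    unfold R
    rw [Matrix.vecMulVec_apply]
    ring
  have hQP : Q * P = 0 := by
    ext i k
    rw [Matrix.mul_apply, Matrix.zero_apply]
    show ∑ b : Fin n, (∑ j : Fin m, Y i j * σ (E j b)) * E k b = 0
    have h1 : ∀ b : Fin n, (∑ j : Fin m, Y i j * σ (E j b)) * E k b =
        ∑ j : Fin m, Y i j * (E k b * σ (E j b)) := by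
      intro b
      rw [Finset.sum_mul]
      apply Finset.sum_congr rfl
      intro j _
      ring
    simp_rw [h1]
    rw [Finset.sum_comm]
    apply Finset.sum_eq_zero
    intro j _
    rw [← Finset.mul_sum]
    have h2 : ∑ b : Fin n, E k b * σ (E j b) = Cfsg.hermForm n F q (E k) (E j) := by
      unfold Cfsg.hermForm
      apply Finset.sum_congr rfl
      intro b _
      rw [hσ]
    rw [h2, hee k j k.2 j.2, mul_zero]
  rw [hPQ, Matrix.det_one_add_mul_comm, hQP, add_zero, Matrix.det_one]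

theorem herm_nS_left (hσ : ∀ x, σ x = x ^ q)
    (hf : Cfsg.Geo.IsUnitaryForm σ (Cfsg.hermForm n F q)) (Y : Matrix (Fin m) (Fin m) F)
    (x y : Fin n → F) :
    Cfsg.hermForm n F q (nS σ m E Y *ᵥ x) y =
      ∑ i : Fin m, ∑ j : Fin m,
        Y i j * Cfsg.hermForm n F q x (E j) * Cfsg.hermForm n F q (E i) y := by
  rw [nS_mulVec hσ, f_sum_left hf]
  apply Finset.sum_congr rfl
  intro i _
  rw [f_sum_left hf]
  apply Finset.sum_congr rfl
  intro j _
  rw [herm_smul_left]

theorem herm_nS_E (hσ : ∀ x, σ x = x ^ q)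
    (hf : Cfsg.Geo.IsUnitaryForm σ (Cfsg.hermForm n F q))
    (hee : ∀ i j, i < m → j < m → Cfsg.hermForm n F q (E i) (E j) = 0)
    (Y : Matrix (Fin m) (Fin m) F) (x : Fin n → F) (k : Fin m) :
    Cfsg.hermForm n F q (nS σ m E Y *ᵥ x) (E k) = 0 := by
  rw [herm_nS_left hσ hf]
  apply Finset.sum_eq_zero
  intro i _
  apply Finset.sum_eq_zero
  intro j _
  rw [hee i k i.2 k.2, mul_zero]

theorem uS_iso (hσ : ∀ x, σ x = x ^ q) (hf : Cfsg.Geo.IsUnitaryForm σ (Cfsg.hermForm n F q))
    (hee : ∀ i j, i < m → j < m → Cfsg.hermForm n F q (E i) (E j) = 0)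
    {Y : Matrix (Fin m) (Fin m) F} (hY : ∀ i j, σ (Y i j) = -Y j i) (x y : Fin n → F) :
    Cfsg.hermForm n F q (uS σ m E Y *ᵥ x) (uS σ m E Y *ᵥ y) = Cfsg.hermForm n F q x y := by
  rw [uS_eq, Matrix.add_mulVec, Matrix.add_mulVec, Matrix.one_mulVec, Matrix.one_mulVec,
    herm_add_left, herm_add_right hσ, herm_add_right hσ]
  have h3 : Cfsg.hermForm n F q (nS σ m E Y *ᵥ x) (nS σ m E Y *ᵥ y) = 0 := by
    rw [hf.herm, herm_nS_left hσ hf, map_sum]
    apply Finset.sum_eq_zero
    intro i _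
    rw [map_sum]
    apply Finset.sum_eq_zero
    intro j _
    rw [hf.herm (E i), herm_nS_E hσ hf hee, map_zero, mul_zero, map_zero]
  have h2 : Cfsg.hermForm n F q x (nS σ m E Y *ᵥ y) =
      -∑ i : Fin m, ∑ j : Fin m,
        Y i j * Cfsg.hermForm n F q x (E j) * Cfsg.hermForm n F q (E i) y := by
    rw [hf.herm, herm_nS_left hσ hf, map_sum, Finset.sum_comm, ← Finset.sum_neg_distrib]
    apply Finset.sum_congr rfl
    intro i _
    rw [map_sum, ← Finset.sum_neg_distrib]
    apply Finset.sum_congr rfl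
    intro j _
    rw [map_mul, map_mul, hY, ← hf.herm, ← hf.herm]
    ring
  rw [h3, h2, herm_nS_left hσ hf]
  ring

theorem Sg_E (hσ : ∀ x, σ x = x ^ q) (hf : Cfsg.Geo.IsUnitaryForm σ (Cfsg.hermForm n F q))
    (fr : EFrame q m E Fv) (i j : Fin m) (s : F) (k : Fin m) :
    Sg σ (E i) (Fv j) s *ᵥ E k = E k + (if k = j then s else 0) • E i := by
  rw [Sg_mulVec hσ, fr.ee k i k.2 i.2, fr.ef k j k.2 j.2, mul_zero, zero_smul, sub_zero]
  by_cases h : k = j
  · rw [if_pos h, if_pos (by rw [h]), mul_one]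
  · rw [if_neg h, if_neg (fun h' => h (Fin.ext h')), mul_zero]

theorem R_sum_left {ι : Type*} (s : Finset ι) (c : ι → F) (v : ι → Fin n → F) (z : Fin n → F) :
    R σ (∑ a ∈ s, c a • v a) z = ∑ a ∈ s, c a • R σ (v a) z := by
  classical
  induction s using Finset.induction_on with
  | empty => simp [R_zero_left]
  | insert a s ha ih =>
    rw [Finset.sum_insert ha, Finset.sum_insert ha, R_add_left, R_smul_left, ih]

theorem R_sum_right {ι : Type*} (s : Finset ι) (c : ι → F) (v : ι → Fin n → F) (y : Fin n → F) :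
    R σ y (∑ a ∈ s, c a • v a) = ∑ a ∈ s, σ (c a) • R σ y (v a) := by
  classical
  induction s using Finset.induction_on with
  | empty => simp [R_zero_right]
  | insert a s ha ih =>
    rw [Finset.sum_insert ha, Finset.sum_insert ha, R_add_right, R_smul_right, ih]

theorem nS_family (A Y : Matrix (Fin m) (Fin m) F) :
    ∑ k : Fin m, ∑ l : Fin m,
      Y k l • R σ (∑ a : Fin m, A a k • E a) (∑ b : Fin m, A b l • E b) =
      nS σ m E (cg σ A Y) := by
  have h1 : ∀ k l : Fin m, Y k l • R σ (∑ a : Fin m, A a k • E a) (∑ b : Fin m, A b l • E b) =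
      ∑ a : Fin m, ∑ b : Fin m, (A a k * Y k l * σ (A b l)) • R σ (E a) (E b) := by
    intro k l
    rw [R_sum_left, Finset.smul_sum]
    apply Finset.sum_congr rfl
    intro a _
    rw [R_sum_right, Finset.smul_sum, Finset.smul_sum]
    apply Finset.sum_congr rfl
    intro b _
    rw [smul_smul, smul_smul]
    congr 1
    ring
  simp_rw [h1]
  unfold nS
  have h2 : ∀ a b : Fin m, (cg σ A Y) a b = ∑ k : Fin m, ∑ l : Fin m, A a k * Y k l * σ (A b l) := by
    intro a b
    unfold cg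
    rw [Matrix.mul_apply, Finset.sum_comm]
    apply Finset.sum_congr rfl
    intro l _
    rw [Matrix.mul_apply, Finset.sum_mul]
    apply Finset.sum_congr rfl
    intro k _
    rw [Matrix.transpose_apply, Matrix.map_apply]
  calc ∑ k : Fin m, ∑ l : Fin m, ∑ a : Fin m, ∑ b : Fin m,
        (A a k * Y k l * σ (A b l)) • R σ (E a) (E b)
      = ∑ k : Fin m, ∑ a : Fin m, ∑ l : Fin m, ∑ b : Fin m,
        (A a k * Y k l * σ (A b l)) • R σ (E a) (E b) := by
        apply Finset.sum_congr rfl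
        intro k _
        rw [Finset.sum_comm]
    _ = ∑ a : Fin m, ∑ k : Fin m, ∑ l : Fin m, ∑ b : Fin m,
        (A a k * Y k l * σ (A b l)) • R σ (E a) (E b) := Finset.sum_comm
    _ = ∑ a : Fin m, ∑ k : Fin m, ∑ b : Fin m, ∑ l : Fin m,
        (A a k * Y k l * σ (A b l)) • R σ (E a) (E b) := by
        apply Finset.sum_congr rfl
        intro a _
        apply Finset.sum_congr rfl
        intro k _
        rw [Finset.sum_comm]
    _ = ∑ a : Fin m, ∑ b : Fin m, ∑ k : Fin m, ∑ l : Fin m,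
        (A a k * Y k l * σ (A b l)) • R σ (E a) (E b) := by
        apply Finset.sum_congr rfl
        intro a _
        rw [Finset.sum_comm]
    _ = ∑ a : Fin m, ∑ b : Fin m, cg σ A Y a b • R σ (E a) (E b) := by
        apply Finset.sum_congr rfl
        intro a _
        apply Finset.sum_congr rfl
        intro b _
        rw [h2, Finset.sum_smul]
        apply Finset.sum_congr rfl
        intro k _
        rw [Finset.sum_smul]

theorem uS_conj (hσ : ∀ x, σ x = x ^ q) (hf : Cfsg.Geo.IsUnitaryForm σ (Cfsg.hermForm n F q))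
    (fr : EFrame q m E Fv) (i j : Fin m) (hij : i ≠ j) (s : F) (Y : Matrix (Fin m) (Fin m) F) :
    Sg σ (E i) (Fv j) s * uS σ m E Y * Sg σ (E i) (Fv j) (-s) =
      uS σ m E (cg σ (1 + Matrix.single i j s) Y) := by
  classical
  have hij' : (i : ℕ) ≠ (j : ℕ) := fun h => hij (Fin.ext h)
  have ha : Cfsg.hermForm n F q (E i) (E i) = 0 := fr.ee i i i.2 i.2
  have hb : Cfsg.hermForm n F q (Fv j) (Fv j) = 0 := fr.ff j j j.2 j.2
  have hab : Cfsg.hermForm n F q (E i) (Fv j) = 0 := by
    rw [fr.ef i j i.2 j.2, if_neg hij']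
  have hMi : Sg σ (E i) (Fv j) s * Sg σ (E i) (Fv j) (-s) = 1 := by
    rw [Sg_mul hσ hf ha hb hab, add_neg_cancel, Sg_zero]
  have hiso := Sg_iso hσ hf ha hb hab s
  have hE : ∀ k : Fin m, Sg σ (E i) (Fv j) s *ᵥ E k =
      ∑ a : Fin m, (1 + Matrix.single i j s : Matrix (Fin m) (Fin m) F) a k • E a := by
    intro k
    rw [Sg_mulVec hσ, fr.ee k i k.2 i.2, fr.ef k j k.2 j.2, mul_zero, zero_smul, sub_zero]
    have h1 : ∀ a : Fin m, (1 + Matrix.single i j s : Matrix (Fin m) (Fin m) F) a k • E a =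
        (if a = k then E a else 0) + (if a = i then (if j = k then s else 0) • E a else 0) := by
      intro a
      rw [Matrix.add_apply, add_smul, Matrix.one_apply, Matrix.single_apply]
      congr 1
      · by_cases h : a = k
        · rw [if_pos h, if_pos h, one_smul]
        · rw [if_neg h, if_neg h, zero_smul]
      · by_cases h : a = i
        · rw [if_pos h]
          by_cases h' : j = k
          · rw [if_pos ⟨h.symm, h'⟩, if_pos h']
          · rw [if_neg (fun hh => h' hh.2), if_neg h']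
        · rw [if_neg h, if_neg (fun hh => h hh.1.symm), zero_smul]
    simp_rw [h1]
    rw [Finset.sum_add_distrib, Finset.sum_ite_eq' Finset.univ k, Finset.sum_ite_eq' Finset.univ i,
      if_pos (Finset.mem_univ _), if_pos (Finset.mem_univ _)]
    congr 2
    by_cases h : j = k
    · rw [if_pos h, if_pos (by rw [h]), mul_one]
    · rw [if_neg h, if_neg (fun h' => h (Fin.ext h').symm), mul_zero]
  rw [uS_eq, uS_eq, conj_one_add hMi]
  congr 1
  rw [← nS_family]
  unfold nS
  rw [Finset.mul_sum, Finset.sum_mul]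
  apply Finset.sum_congr rfl
  intro k _
  rw [Finset.mul_sum, Finset.sum_mul]
  apply Finset.sum_congr rfl
  intro l _
  rw [Matrix.mul_smul, Matrix.smul_mul, conj_R hσ hMi hiso, hE, hE]

end Cfsg.Agent.Lib.helper15.WB
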