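import Cfsg.Agent.Lib.helper15.WB.EFrameEx
import Cfsg.Agent.Lib.helper15.WB.Siegel
import Cfsg.Agent.Lib.Helper24.WBHm
import Cfsg.Agent.Lib.Helper21.WBRa
import Cfsg.Agent.Lib.Helper11.WBRb
import Cfsg.Agent.Lib.Helper22.WBD
import Cfsg.Agent.Lib.Helper28.WBN
import Cfsg.Agent.Lib.Helper28.UHerm
import Cfsg.Agent.Lib.Lead.SLn

set_option autoImplicit false

namespace Cfsg.Agent.Lib.helper15.WB.Main

open Matrix Cfsg.Agent.Lib.helper15.SUn Cfsg.Agent.Lib.helper15.WB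
  Cfsg.Agent.Lib.Helper28.UForm Cfsg.Agent.Lib.Helper21.WBRa Cfsg.Agent.Lib.Helper11.WBRb
  Cfsg.Agent.Lib.Helper22.WBD Cfsg.Agent.Lib.Helper28.WBN Cfsg.Agent.Lib.Helper24.WBHm

variable {F : Type*} [Field F] [Fintype F] [DecidableEq F] {n : ℕ} {q : ℕ} {σ : F ≃+* F} {m : ℕ}
  {E Fv : ℕ → Fin n → F}

omit [Fintype F] [DecidableEq F] in
theorem skew_smul {κ : F} (hκ : σ κ = -κ) {H : Matrix (Fin m) (Fin m) F} (hH : IsHerm σ H)
    (i j : Fin m) : σ ((κ • H) i j) = -(κ • H) j i := by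
  rw [Matrix.smul_apply, Matrix.smul_apply, smul_eq_mul, smul_eq_mul, map_mul, hκ, hH i j]
  ring

/-- the Siegel homomorphism -/
noncomputable def phi (hσ : ∀ x, σ x = x ^ q) (hf : Cfsg.Geo.IsUnitaryForm σ (Cfsg.hermForm n F q))
    (hee : ∀ i j, i < m → j < m → Cfsg.hermForm n F q (E i) (E j) = 0)
    {κ : F} (hκ : σ κ = -κ) (H : ↥(Herm σ m)) : ↥(Cfsg.SU n F q) :=
  mkSU (uS σ m E (κ • (H : Matrix (Fin m) (Fin m) F))) (uS_det hσ hee _)
    (uS_iso hσ hf hee (skew_smul hκ H.2))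

theorem coe_phi (hσ : ∀ x, σ x = x ^ q) (hf : Cfsg.Geo.IsUnitaryForm σ (Cfsg.hermForm n F q))
    (hee : ∀ i j, i < m → j < m → Cfsg.hermForm n F q (E i) (E j) = 0)
    {κ : F} (hκ : σ κ = -κ) (H : ↥(Herm σ m)) :
    ((phi hσ hf hee hκ H : ↥(Cfsg.SU n F q)) : Matrix.SpecialLinearGroup (Fin n) F).1 =
      uS σ m E (κ • (H : Matrix (Fin m) (Fin m) F)) := rfl

theorem phi_add (hσ : ∀ x, σ x = x ^ q) (hf : Cfsg.Geo.IsUnitaryForm σ (Cfsg.hermForm n F q))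
    (hee : ∀ i j, i < m → j < m → Cfsg.hermForm n F q (E i) (E j) = 0)
    {κ : F} (hκ : σ κ = -κ) (a b : ↥(Herm σ m)) :
    phi hσ hf hee hκ (a + b) = phi hσ hf hee hκ a * phi hσ hf hee hκ b := by
  apply su_ext
  rw [su_coe_mul]
  show uS σ m E (κ • ((a + b : ↥(Herm σ m)) : Matrix (Fin m) (Fin m) F)) = _
  rw [AddSubgroup.coe_add, smul_add, uS_add hσ hee]
  rfl

theorem phi_conj (hσ : ∀ x, σ x = x ^ q) (hf : Cfsg.Geo.IsUnitaryForm σ (Cfsg.hermForm n F q))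
    (fr : EFrame q m E Fv) {κ : F} (hκ : σ κ = -κ) (i j : Fin m) (hij : i ≠ j) (s : F) :
    ∃ g : ↥(Cfsg.SU n F q), ∀ H : ↥(Herm σ m),
      g * phi hσ hf fr.ee hκ H * g⁻¹ =
        phi hσ hf fr.ee hκ (cgHom σ hf.involutive (1 + Matrix.single i j s) H) := by
  have hij' : (i : ℕ) ≠ (j : ℕ) := fun h => hij (Fin.ext h)
  have ha : Cfsg.hermForm n F q (E i) (E i) = 0 := fr.ee i i i.2 i.2
  have hb : Cfsg.hermForm n F q (Fv j) (Fv j) = 0 := fr.ff j j j.2 j.2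
  have hab : Cfsg.hermForm n F q (E i) (Fv j) = 0 := by
    rw [fr.ef i j i.2 j.2, if_neg hij']
  refine ⟨mkSU (Sg σ (E i) (Fv j) s) (Sg_det hσ hf ha hb hab s) (Sg_iso hσ hf ha hb hab s), ?_⟩
  intro H
  have hinv : ((mkSU (Sg σ (E i) (Fv j) s) (Sg_det hσ hf ha hb hab s)
      (Sg_iso hσ hf ha hb hab s) : ↥(Cfsg.SU n F q))⁻¹ : ↥(Cfsg.SU n F q)) =
      mkSU (Sg σ (E i) (Fv j) (-s)) (Sg_det hσ hf ha hb hab (-s))
        (Sg_iso hσ hf ha hb hab (-s)) := by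
    apply inv_eq_of_mul_eq_one_right
    apply su_ext
    rw [su_coe_mul, su_coe_one]
    show Sg σ (E i) (Fv j) s * Sg σ (E i) (Fv j) (-s) = 1
    rw [Sg_mul hσ hf ha hb hab, add_neg_cancel, Sg_zero]
  rw [hinv]
  apply su_ext
  rw [su_coe_mul, su_coe_mul]
  show Sg σ (E i) (Fv j) s * uS σ m E (κ • (H : Matrix (Fin m) (Fin m) F)) *
      Sg σ (E i) (Fv j) (-s) = uS σ m E (κ • cg σ (1 + Matrix.single i j s) H)
  rw [uS_conj hσ hf fr i j hij s, cg_smul]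

/-- invariance of a set of Hermitian matrices under elementary congruences implies invariance
under all congruences of determinant one -/
theorem inv_SL (hm : 2 ≤ m) (T : Finset (Matrix (Fin m) (Fin m) F))
    (h : ∀ X ∈ T, ∀ i j : Fin m, i ≠ j → ∀ s : F, cg σ (1 + Matrix.single i j s) X ∈ T) :
    ∀ X ∈ T, ∀ A : Matrix (Fin m) (Fin m) F, A.det = 1 → cg σ A X ∈ T := by
  intro X hX A hA
  haveI : Nontrivial (Fin m) := Fin.nontrivial_iff_two_le.2 hm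
  have key : ∀ B : Matrix.SpecialLinearGroup (Fin m) F, ∀ X ∈ T, cg σ B.1 X ∈ T := by
    intro B
    refine Cfsg.Agent.Lib.Lead.SL_transvection_induction
      (fun B : Matrix.SpecialLinearGroup (Fin m) F => ∀ X ∈ T, cg σ B.1 X ∈ T) ?_ ?_ B
    · intro i j hij c X hX
      exact h X hX i j hij c
    · intro A B hA hB X hX
      show cg σ (A.1 * B.1) X ∈ T
      rw [cg_mul]
      exact hA _ (hB X hX)
  exact key ⟨A, hA⟩ X hX

theorem main_even (hF : Fintype.card F = q ^ 2) (m' : ℕ)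
    {k : ℕ} (ρ : Representation ℂ ↥(Cfsg.SU (2 * (m' + 2)) F q) (Fin k → ℂ))
    (hirr : ρ.IsIrreducible) (hk : 2 ≤ k) :
    (q ^ (2 * (m' + 2)) - 1) / (q + 1) ≤ k := by
  classical
  obtain ⟨σ, hσ, hf⟩ := Cfsg.Agent.Lib.Helper28.UHerm.herm_unitary hF (2 * (m' + 2))
  obtain ⟨E, Fv, fr⟩ := exists_eframe hF hσ hf (m' + 2) rfl
  obtain ⟨κ, hκ0, hκ⟩ := exists_K0 hf
  have hσ2 : ∀ x, σ (σ x) = x := hf.involutive
  -- the Siegel homomorphism
  set φ : ↥(Herm σ (m' + 2)) → ↥(Cfsg.SU (2 * (m' + 2)) F q) := phi hσ hf fr.ee hκ with hφdef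
  have hφ : ∀ a b, φ (a + b) = φ a * φ b := phi_add hσ hf fr.ee hκ
  -- nontriviality
  have hE0 : E 0 ≠ 0 := by
    intro h0
    have := fr.ef 0 0 (by omega) (by omega)
    rw [h0, herm_zero_left, if_pos rfl] at this
    exact zero_ne_one this
  obtain ⟨c, A, hc, hA, hρA⟩ := rho_TV_ne_one hF hσ hf (by omega) (by omega) ρ hirr hk (E 0) hE0
    (fr.ee 0 0 (by omega) (by omega))
  have hnt : ∃ a, ρ (φ a) ≠ 1 := by
    have hfix : σ (c / κ) = c / κ := by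
      rw [map_div₀, hc, hκ, neg_div_neg_eq]
    have hmem : Matrix.single (0 : Fin (m' + 2)) 0 (c / κ) ∈ Herm σ (m' + 2) := by
      intro i j
      rw [Matrix.single_apply, Matrix.single_apply]
      by_cases h : (0 : Fin (m' + 2)) = i ∧ (0 : Fin (m' + 2)) = j
      · rw [if_pos h, if_pos ⟨h.2, h.1⟩, hfix]
      · rw [if_neg h, if_neg (fun h' => h ⟨h'.2, h'.1⟩), map_zero]
    refine ⟨⟨_, hmem⟩, ?_⟩
    have : φ ⟨_, hmem⟩ = A := by
      apply su_ext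
      rw [hA]
      show uS σ (m' + 2) E (κ • Matrix.single (0 : Fin (m' + 2)) 0 (c / κ)) = _
      rw [Matrix.smul_single, smul_eq_mul, mul_div_cancel₀ _ hκ0, uS_single]
      rfl
    rw [this]
    exact hρA
  obtain ⟨ψ, hψ, hψ1⟩ := exists_occ_ne_one ρ φ hφ hnt
  -- duality
  obtain ⟨χ0, hχ0⟩ := (AddChar.exists_apply_ne_zero (α := F) (a := (1 : F))).2 one_ne_zero
  have hbij := dualChar_bijective (σ := σ) (m := m' + 2) hF hσ χ0 hχ0
  set T0 : Finset ↥(Herm σ (m' + 2)) :=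
    Finset.univ.filter (fun X => dualChar σ (m' + 2) χ0 X ∈ Occ ρ φ) with hT0
  have hT0card : T0.card ≤ k := by
    have h1 := card_occ_le ρ φ hφ (T0.image (dualChar σ (m' + 2) χ0)) (by
      intro ψ' hψ'
      rw [Finset.mem_image] at hψ'
      obtain ⟨X, hX, rfl⟩ := hψ'
      exact (Finset.mem_filter.1 hX).2)
    rw [Finset.card_image_of_injective _ hbij.1, Module.finrank_fin_fun] at h1
    exact h1
  set T : Finset (Matrix (Fin (m' + 2)) (Fin (m' + 2)) F) :=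
    T0.map ⟨Subtype.val, Subtype.val_injective⟩ with hTdef
  have hmemT : ∀ X : Matrix (Fin (m' + 2)) (Fin (m' + 2)) F,
      X ∈ T ↔ ∃ h : X ∈ Herm σ (m' + 2), dualChar σ (m' + 2) χ0 ⟨X, h⟩ ∈ Occ ρ φ := by
    intro X
    rw [hTdef, Finset.mem_map]
    constructor
    · rintro ⟨Y, hY, rfl⟩
      exact ⟨Y.2, (Finset.mem_filter.1 hY).2⟩
    · rintro ⟨h, hX⟩
      exact ⟨⟨X, h⟩, Finset.mem_filter.2 ⟨Finset.mem_univ _, hX⟩, rfl⟩
  have hTherm : ∀ X ∈ T, IsHerm σ X := by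
    intro X hX
    obtain ⟨h, -⟩ := (hmemT X).1 hX
    exact h
  -- invariance under elementary congruences
  have hTel : ∀ X ∈ T, ∀ i j : Fin (m' + 2), i ≠ j → ∀ s : F,
      cg σ (1 + Matrix.single i j s) X ∈ T := by
    intro X hX i j hij s
    obtain ⟨hXh, hXo⟩ := (hmemT X).1 hX
    obtain ⟨g, hg⟩ := phi_conj hσ hf fr hκ j i (Ne.symm hij) (σ s)
    have h1 := occ_comp ρ φ g (cgHom σ hσ2 (1 + Matrix.single j i (σ s))) hg hXo
    rw [dualChar_comp_cg hσ2] at h1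
    rw [hmemT]
    have hA : ((1 + Matrix.single j i (σ s) : Matrix (Fin (m' + 2)) (Fin (m' + 2)) F).map σ)ᵀ =
        1 + Matrix.single i j s := by
      ext a b
      rw [Matrix.transpose_apply, Matrix.map_apply, Matrix.add_apply, Matrix.add_apply, map_add]
      congr 1
      · by_cases hab : a = b
        · subst hab; simp
        · rw [Matrix.one_apply_ne hab, Matrix.one_apply_ne (Ne.symm hab), map_zero]
      · rw [Matrix.single_apply, Matrix.single_apply]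
        by_cases h : j = b ∧ i = a
        · rw [if_pos h, if_pos ⟨h.2, h.1⟩, hσ2]
        · rw [if_neg h, if_neg (fun h' => h ⟨h'.2, h'.1⟩), map_zero]
    rw [hA] at h1
    exact ⟨_, h1⟩
  have hTinv := inv_SL (σ := σ) (by omega) T hTel
  -- a nonzero member
  have hTne : ∃ X ∈ T, X ≠ 0 := by
    obtain ⟨X, rfl⟩ := hbij.2 ψ
    refine ⟨X.1, (hmemT _).2 ⟨X.2, hψ⟩, ?_⟩
    intro h0
    apply hψ1
    have : X = 0 := Subtype.ext h0
    rw [this, dualChar_zero]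
  have hbound := herm_bound_SL hF hσ m' T hTherm hTinv hTne
  calc (q ^ (2 * (m' + 2)) - 1) / (q + 1) ≤ (T.filter (fun X => X ≠ 0)).card := hbound
    _ ≤ T.card := Finset.card_filter_le _ _
    _ = T0.card := Finset.card_map _
    _ ≤ k := hT0card

end Cfsg.Agent.Lib.helper15.WB.Main
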