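import Cfsg.Agent.Lib.helper15.WB.MainEven
import Cfsg.Agent.Lib.helper15.WB.Heis
import Cfsg.Agent.Lib.Helper13.WB2C
import Cfsg.Agent.Lib.Helper16.WB2D
import Cfsg.Agent.Lib.Helper21.SUnP7

set_option autoImplicit false

/-! Project WB, phase 2: assembly of the lower bound `(q^n - q)/(q+1)` for `SU_n(q)`, `n` odd. -/

namespace Cfsg.Agent.Lib.helper15.WB.MainO

open Matrix Cfsg.Agent.Lib.helper15.SUn Cfsg.Agent.Lib.helper15.WB
  Cfsg.Agent.Lib.helper15.WB.Main Cfsg.Agent.Lib.helper15.WB.Heis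
  Cfsg.Agent.Lib.Helper13.WB2C Cfsg.Agent.Lib.Helper16.WB2D
  Cfsg.Agent.Lib.Helper28.UForm Cfsg.Agent.Lib.Helper21.WBRa Cfsg.Agent.Lib.Helper11.WBRb
  Cfsg.Agent.Lib.Helper22.WBD Cfsg.Agent.Lib.Helper28.WBN Cfsg.Agent.Lib.Helper24.WBHm

variable {F : Type*} [Field F] [Fintype F] [DecidableEq F] {n : ℕ} {q : ℕ} {σ : F ≃+* F} {m : ℕ}
  {E Fv : ℕ → Fin n → F} {d : Fin n → F}

omit [Fintype F] [DecidableEq F] in
theorem eframe_of_frame (fr : Frame q m E Fv d) : EFrame q m E Fv :=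
  ⟨fr.ee, fr.ff, fr.ef, fr.fe⟩

omit [Fintype F] [DecidableEq F] in
theorem det_map_sigma (A : Matrix (Fin m) (Fin m) F) : (A.map σ).det = σ A.det := by
  have := RingHom.map_det (σ : F →+* F) A
  exact this.symm

omit [Fintype F] [DecidableEq F] in
theorem map_transpose_map_transpose (hσ2 : ∀ x, σ (σ x) = x) (A : Matrix (Fin m) (Fin m) F) :
    (((A.map σ)ᵀ).map σ)ᵀ = A := by
  ext a b
  simp [hσ2]

theorem arith_odd (q M : ℕ) :
    (q ^ (2 * M + 1) - q) / (q + 1) = q * ((q ^ (2 * M) - 1) / (q + 1)) := by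
  have hdvd : (q + 1) ∣ q ^ (2 * M) - 1 := by
    have h1 : q ^ 2 - 1 ∣ (q ^ 2) ^ M - 1 ^ M := Nat.sub_dvd_pow_sub_pow _ _ _
    rw [one_pow, ← pow_mul] at h1
    refine Dvd.dvd.trans ?_ h1
    rcases Nat.eq_zero_or_pos q with h0 | h0
    · subst h0
      simp
    · obtain ⟨r, rfl⟩ : ∃ r, q = r + 1 := ⟨q - 1, by omega⟩
      refine ⟨r, ?_⟩
      have : (r + 1) ^ 2 = (r + 1 + 1) * r + 1 := by ring
      rw [this, Nat.add_sub_cancel]
  have h2 : q ^ (2 * M + 1) - q = q * (q ^ (2 * M) - 1) := by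
    rw [Nat.mul_sub, mul_one, pow_succ, mul_comm]
  rw [h2, Nat.mul_div_assoc _ hdvd]

theorem phi_conj_GL (hσ : ∀ x, σ x = x ^ q)
    (hf : Cfsg.Geo.IsUnitaryForm σ (Cfsg.hermForm n F q)) (fr : Frame q (m + 1) E Fv d)
    {κ : F} (hκ : σ κ = -κ) (A : Matrix (Fin (m + 1)) (Fin (m + 1)) F) (hA : A.det ≠ 0) :
    ∃ g : ↥(Cfsg.SU n F q), ∀ H : ↥(Herm σ (m + 1)),
      g * phi hσ hf fr.ee hκ H * g⁻¹ = phi hσ hf fr.ee hκ (cgHom σ hf.involutive A H) := by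
  refine GL_induction (P := fun A => ∃ g : ↥(Cfsg.SU n F q), ∀ H : ↥(Herm σ (m + 1)),
      g * phi hσ hf fr.ee hκ H * g⁻¹ = phi hσ hf fr.ee hκ (cgHom σ hf.involutive A H))
    ?_ ?_ ?_ A hA
  · intro i j hij s
    exact phi_conj hσ hf (eframe_of_frame fr) hκ i j hij s
  · intro c hc
    exact phi_conj_diag hσ hf fr hκ c hc
  · rintro A B ⟨gA, hgA⟩ ⟨gB, hgB⟩
    refine ⟨gA * gB, fun H => ?_⟩
    have h1 : gA * gB * phi hσ hf fr.ee hκ H * (gA * gB)⁻¹ =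
        gA * (gB * phi hσ hf fr.ee hκ H * gB⁻¹) * gA⁻¹ := by group
    rw [h1, hgB, hgA]
    congr 1
    apply Subtype.ext
    rw [coe_cgHom, coe_cgHom, coe_cgHom, cg_mul]

/-- a nonzero Hermitian matrix can be moved by a congruence to one with nonzero `(0,0)` entry -/
theorem move_diag (hF : Fintype.card F = q ^ 2) (hσ : ∀ x, σ x = x ^ q) (hσ2 : ∀ x, σ (σ x) = x)
    (X : Matrix (Fin (m + 1)) (Fin (m + 1)) F) (hX : IsHerm σ X) (hX0 : X ≠ 0) :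
    ∃ A : Matrix (Fin (m + 1)) (Fin (m + 1)) F, A.det ≠ 0 ∧ cg σ A X 0 0 ≠ 0 := by
  classical
  rcases Nat.eq_zero_or_pos m with hm | hm
  · subst hm
    refine ⟨1, by rw [Matrix.det_one]; exact one_ne_zero, ?_⟩
    rw [cg_one]
    intro h
    apply hX0
    ext i j
    have hi : i = 0 := Fin.ext (by omega)
    have hj : j = 0 := Fin.ext (by omega)
    rw [hi, hj, h, Matrix.zero_apply]
  · obtain ⟨m', rfl⟩ : ∃ m', m = m' + 1 := ⟨m - 1, by omega⟩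
    set T' : Finset (Matrix (Fin (m' + 2)) (Fin (m' + 2)) F) :=
      Finset.univ.filter (fun Y => ∃ A : Matrix (Fin (m' + 2)) (Fin (m' + 2)) F,
        A.det = 1 ∧ Y = cg σ A X) with hT'
    have hmem : ∀ Y, Y ∈ T' ↔ ∃ A : Matrix (Fin (m' + 2)) (Fin (m' + 2)) F,
        A.det = 1 ∧ Y = cg σ A X := by
      intro Y
      rw [hT', Finset.mem_filter]
      exact ⟨fun h => h.2, fun h => ⟨Finset.mem_univ _, h⟩⟩
    obtain ⟨Y, hY, hY0⟩ := Cfsg.Agent.Lib.Helper16.WBHa.exists_diag_ne hF hσ m' T'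
      (by
        intro Y hY
        obtain ⟨A, -, rfl⟩ := (hmem Y).1 hY
        exact cg_mem_Herm hσ2 A hX)
      (by
        intro Y hY B hB
        obtain ⟨A, hA, rfl⟩ := (hmem Y).1 hY
        refine (hmem _).2 ⟨B * A, by rw [Matrix.det_mul, hA, hB, one_mul], ?_⟩
        rw [cg_mul])
      ⟨X, (hmem X).2 ⟨1, Matrix.det_one, (cg_one X).symm⟩, hX0⟩
    obtain ⟨A, hA, rfl⟩ := (hmem Y).1 hY
    exact ⟨A, by rw [hA]; exact one_ne_zero, hY0⟩

theorem main_odd (hF : Fintype.card F = q ^ 2) (m : ℕ) (h32 : ¬ (2 * (m + 1) + 1 = 3 ∧ q = 2))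
    {k : ℕ} (ρ : Representation ℂ ↥(Cfsg.SU (2 * (m + 1) + 1) F q) (Fin k → ℂ))
    (hirr : ρ.IsIrreducible) (hk : 2 ≤ k) :
    (q ^ (2 * (m + 1) + 1) - q) / (q + 1) ≤ k := by
  classical
  obtain ⟨σ, hσ, hf⟩ := Cfsg.Agent.Lib.Helper28.UHerm.herm_unitary hF (2 * (m + 1) + 1)
  obtain ⟨E, Fv, d, fr⟩ := Cfsg.Agent.Lib.Helper21.SUnP7.exists_frame hF hσ hf (m + 1) rfl
  obtain ⟨κ, hκ0, hκ⟩ := exists_K0 hf
  have hσ2 : ∀ x, σ (σ x) = x := hf.involutive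
  -- the Siegel homomorphism
  set φ : ↥(Herm σ (m + 1)) → ↥(Cfsg.SU (2 * (m + 1) + 1) F q) := phi hσ hf fr.ee hκ with hφdef
  have hφ : ∀ a b, φ (a + b) = φ a * φ b := phi_add hσ hf fr.ee hκ
  -- nontriviality
  have hE0 : E 0 ≠ 0 := by
    intro h0
    have := fr.ef 0 0 (by omega) (by omega)
    rw [h0, herm_zero_left, if_pos rfl] at this
    exact zero_ne_one this
  obtain ⟨c, A, hc, hA, hρA⟩ := rho_TV_ne_one hF hσ hf (by omega) h32 ρ hirr hk (E 0) hE0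
    (fr.ee 0 0 (by omega) (by omega))
  have hnt : ∃ a, ρ (φ a) ≠ 1 := by
    have hfix : σ (c / κ) = c / κ := by
      rw [map_div₀, hc, hκ, neg_div_neg_eq]
    have hmem : Matrix.single (0 : Fin (m + 1)) 0 (c / κ) ∈ Herm σ (m + 1) := by
      intro i j
      rw [Matrix.single_apply, Matrix.single_apply]
      by_cases h : (0 : Fin (m + 1)) = i ∧ (0 : Fin (m + 1)) = j
      · rw [if_pos h, if_pos ⟨h.2, h.1⟩, hfix]
      · rw [if_neg h, if_neg (fun h' => h ⟨h'.2, h'.1⟩), map_zero]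
    refine ⟨⟨_, hmem⟩, ?_⟩
    have : φ ⟨_, hmem⟩ = A := by
      apply su_ext
      rw [hA]
      show uS σ (m + 1) E (κ • Matrix.single (0 : Fin (m + 1)) 0 (c / κ)) = _
      rw [Matrix.smul_single, smul_eq_mul, mul_div_cancel₀ _ hκ0, uS_single]
      rfl
    rw [this]
    exact hρA
  obtain ⟨ψ, hψ, hψ1⟩ := exists_occ_ne_one ρ φ hφ hnt
  -- duality
  obtain ⟨χ0, hχ0⟩ := (AddChar.exists_apply_ne_zero (α := F) (a := (1 : F))).2 one_ne_zero
  have hbij := dualChar_bijective (σ := σ) (m := m + 1) hF hσ χ0 hχ0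
  set T0 : Finset ↥(Herm σ (m + 1)) :=
    Finset.univ.filter (fun X => dualChar σ (m + 1) χ0 X ∈ Occ ρ φ) with hT0
  set T : Finset (Matrix (Fin (m + 1)) (Fin (m + 1)) F) :=
    T0.map ⟨Subtype.val, Subtype.val_injective⟩ with hTdef
  have hmemT : ∀ X : Matrix (Fin (m + 1)) (Fin (m + 1)) F,
      X ∈ T ↔ ∃ h : X ∈ Herm σ (m + 1), dualChar σ (m + 1) χ0 ⟨X, h⟩ ∈ Occ ρ φ := by
    intro X
    rw [hTdef, Finset.mem_map]
    constructor
    · rintro ⟨Y, hY, rfl⟩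
      exact ⟨Y.2, (Finset.mem_filter.1 hY).2⟩
    · rintro ⟨h, hX⟩
      exact ⟨⟨X, h⟩, Finset.mem_filter.2 ⟨Finset.mem_univ _, hX⟩, rfl⟩
  have hTherm : ∀ X ∈ T, IsHerm σ X := by
    intro X hX
    obtain ⟨h, -⟩ := (hmemT X).1 hX
    exact h
  -- invariance under all congruences
  have hTinv : ∀ X ∈ T, ∀ A : Matrix (Fin (m + 1)) (Fin (m + 1)) F, A.det ≠ 0 →
      cg σ A X ∈ T := by
    intro X hX A hA
    obtain ⟨hXh, hXo⟩ := (hmemT X).1 hX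
    have hB : ((A.map σ)ᵀ).det ≠ 0 := by
      rw [Matrix.det_transpose, det_map_sigma]
      exact fun h => hA ((map_eq_zero σ).1 h)
    obtain ⟨g, hg⟩ := phi_conj_GL hσ hf fr hκ ((A.map σ)ᵀ) hB
    have h1 := occ_comp ρ φ g (cgHom σ hσ2 ((A.map σ)ᵀ)) hg hXo
    rw [dualChar_comp_cg hσ2] at h1
    rw [hmemT]
    rw [map_transpose_map_transpose hσ2] at h1
    exact ⟨_, h1⟩
  -- a nonzero member
  have hTne : ∃ X ∈ T, X ≠ 0 := by
    obtain ⟨X, rfl⟩ := hbij.2 ψ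
    refine ⟨X.1, (hmemT _).2 ⟨X.2, hψ⟩, ?_⟩
    intro h0
    apply hψ1
    have : X = 0 := Subtype.ext h0
    rw [this, dualChar_zero]
  have hbound := herm_bound_GL hF hσ m T hTherm hTinv hTne
  -- multiplicity at least q
  have hmult : ∀ X ∈ T0.filter (fun X => X ≠ 0),
      q ≤ Module.finrank ℂ (eig ρ φ (dualChar σ (m + 1) χ0 X)) := by
    intro X hX
    rw [Finset.mem_filter] at hX
    obtain ⟨hXT, hX0⟩ := hX
    have hXo : dualChar σ (m + 1) χ0 X ∈ Occ ρ φ := (Finset.mem_filter.1 hXT).2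
    have hX0' : (X : Matrix (Fin (m + 1)) (Fin (m + 1)) F) ≠ 0 := fun h => hX0 (Subtype.ext h)
    obtain ⟨A, hA, hA00⟩ := move_diag hF hσ hσ2 X.1 X.2 hX0'
    have hXT' : X.1 ∈ T := (hmemT _).2 ⟨X.2, hXo⟩
    obtain ⟨hYh, hYo⟩ := (hmemT _).1 (hTinv X.1 hXT' A hA)
    have h1 := heis_bound hF hσ hf fr hκ0 hκ χ0 hχ0 ρ ⟨cg σ A X.1, hYh⟩ hA00 hYo
    have hAu : IsUnit A.det := isUnit_iff_ne_zero.2 hA
    have hB : (((A⁻¹).map σ)ᵀ).det ≠ 0 := by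
      rw [Matrix.det_transpose, det_map_sigma]
      intro h
      have h2 := (map_eq_zero σ).1 h
      have h3 : A⁻¹.det * A.det = 1 := by
        rw [← Matrix.det_mul, Matrix.nonsing_inv_mul _ hAu, Matrix.det_one]
      rw [h2, zero_mul] at h3
      exact zero_ne_one h3
    obtain ⟨g, hg⟩ := phi_conj_GL hσ hf fr hκ (((A⁻¹).map σ)ᵀ) hB
    have h2 := finrank_eig_comp_ge ρ φ g (cgHom σ hσ2 (((A⁻¹).map σ)ᵀ)) hg
      (dualChar σ (m + 1) χ0 ⟨cg σ A X.1, hYh⟩)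
    rw [dualChar_comp_cg hσ2] at h2
    have h3 : (⟨cg σ ((((A⁻¹).map σ)ᵀ).map σ)ᵀ
        ((⟨cg σ A X.1, hYh⟩ : ↥(Herm σ (m + 1))) : Matrix (Fin (m + 1)) (Fin (m + 1)) F),
        cg_mem_Herm hσ2 _ (⟨cg σ A X.1, hYh⟩ : ↥(Herm σ (m + 1))).2⟩ : ↥(Herm σ (m + 1))) = X := by
      apply Subtype.ext
      show cg σ ((((A⁻¹).map σ)ᵀ).map σ)ᵀ (cg σ A X.1) = X.1
      rw [map_transpose_map_transpose hσ2, ← cg_mul, Matrix.nonsing_inv_mul _ hAu, cg_one]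
    rw [h3] at h2
    exact le_trans h1 h2
  -- counting
  have hsum := sum_finrank_eig_le ρ φ hφ
    ((T0.filter (fun X => X ≠ 0)).image (dualChar σ (m + 1) χ0))
  rw [Finset.sum_image (fun a _ b _ h => hbij.1 h), Module.finrank_fin_fun] at hsum
  have hcard : (T.filter (fun X => X ≠ 0)).card = (T0.filter (fun X => X ≠ 0)).card := by
    rw [hTdef, Finset.filter_map, Finset.card_map]
    congr 1
    apply Finset.filter_congr
    intro X _
    simp only [Function.comp, Function.Embedding.coeFn_mk]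
    constructor
    · intro h h'
      exact h (by rw [h']; rfl)
    · intro h h'
      exact h (Subtype.ext h')
  rw [arith_odd]
  calc q * ((q ^ (2 * (m + 1)) - 1) / (q + 1))
      ≤ q * (T0.filter (fun X => X ≠ 0)).card := by
        rw [← hcard]
        exact Nat.mul_le_mul_left _ hbound
    _ = ∑ _X ∈ T0.filter (fun X => X ≠ 0), q := by
        rw [Finset.sum_const, smul_eq_mul, mul_comm]
    _ ≤ ∑ X ∈ T0.filter (fun X => X ≠ 0),
          Module.finrank ℂ (eig ρ φ (dualChar σ (m + 1) χ0 X)) := Finset.sum_le_sum hmult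
    _ ≤ k := hsum

end Cfsg.Agent.Lib.helper15.WB.MainO
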